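import Mathlib
import Groth.Agent.ARLib.Cat

/-! Detection of systems adic up to translation by exact linear functors. -/

set_option autoImplicit false
set_option linter.unusedSectionVars false
set_option linter.style.haveILetI false
set_option backward.isDefEq.respectTransparency false
set_option backward.isDefEq.respectTransparency.types false
set_option synthInstance.maxHeartbeats 400000
set_option maxHeartbeats 1000000

universe w v u v' u'

open CategoryTheory CategoryTheory.Limits Opposite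

namespace ARLib

variable {C : Type u} [Category.{v} C] [Abelian C] {A : Type w} [CommRing A] [Linear A C]
  {J : Ideal A} {X X' : ARSys.PS C}

/-- Kernels of transition maps of the universal images lie in `J`-multiples, with a defect `s`. -/
def CondB (J : Ideal A) (X : ARSys.PS C) (r s : ℕ) : Prop :=
  ∀ (n m : ℕ) (h : n ≤ m) (x : El (X.obj (op (m + r)))), res X (h.trans (Nat.le_add_right m r)) x = 0 →
    ∃ z ∈ IM (J ^ (n + 1 - s)) (X.obj (op (m + r))),
      res X (Nat.le_add_right m r) z = res X (Nat.le_add_right m r) x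

/-- Uniform bounds witnessing that a system is adic up to translation. -/
def Bd (J : Ideal A) (X : ARSys.PS C) (r s : ℕ) : Prop := MLB X r ∧ CondB J X r s

theorem exists_cover {I : ARSys.PS C} {ι : I ⟶ X} {r : ℕ}
    (hι : ∀ n, Function.Injective (ap (ι.app (op n))))
    (himg : ∀ n, imageSubobject (ι.app (op n)) = imageSubobject (ARSys.shiftMap X r n))
    (hX : MLB X r) {r' : ℕ} (hr : r ≤ r') (n : ℕ) :
    ∃ l : X.obj (op (n + r')) ⟶ I.obj (op n), Function.Surjective (ap l) ∧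
      ∀ x, ap (ι.app (op n)) (ap l x) = res X (Nat.le_add_right n r') x := by
  have e := congrArg rg (himg n)
  rw [rg_image, rg_image] at e
  have hmem : ∀ x, ∃ i, ap (ι.app (op n)) i = res X (Nat.le_add_right n r') x := fun x => by
    obtain ⟨i, hi⟩ := e.symm.subset ⟨res X (Nat.add_le_add_left hr n) x, rfl⟩
    exact ⟨i, by rw [hi, res_shiftMap, res_res]⟩
  haveI : Mono (ι.app (op n)) := (mono_iff _).2 (hι n)
  have hz : ARSys.tr X (Nat.le_add_right n r') ≫ cokernel.π (ι.app (op n)) = 0 := eq_zero fun x => by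
    obtain ⟨i, hi⟩ := hmem x
    rw [ap_comp]
    change ap _ (res X _ x) = 0
    rw [← hi, cokernel_π_ap]
  refine ⟨Abelian.monoLift _ _ hz, fun i => ?_, fun x => ?_⟩
  · obtain ⟨a, ha⟩ := e.subset ⟨i, rfl⟩
    rw [res_shiftMap] at ha
    obtain ⟨b, hb⟩ := hX n (n + r) (n + r') (Nat.le_add_right n r) (Nat.le_add_right n r') le_rfl a
    exact ⟨b, hι n (by rw [← ap_comp, Abelian.monoLift_comp, ← ha]; exact hb)⟩
  · rw [← ap_comp, Abelian.monoLift_comp]; rfl

theorem cond_iff_condB (hq : ∀ k, HQ C (J ^ k)) {I : ARSys.PS C} {ι : I ⟶ X} {r : ℕ}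
    (hι : ∀ n, Function.Injective (ap (ι.app (op n))))
    (himg : ∀ n, imageSubobject (ι.app (op n)) = imageSubobject (ARSys.shiftMap X r n))
    (hX : MLB X r) {r' : ℕ} (hr : r ≤ r') (s : ℕ) : Cond J I s ↔ CondB J X r' s := by
  choose l hl hlι using exists_cover hι himg hX hr
  constructor
  · intro h n m hnm x hx
    have h0 : res I hnm (ap (l m) x) = 0 := hι n (by rw [map_zero, res_natural, hlι, res_res, hx])
    obtain ⟨z, hz, hze⟩ := IM_lift (hq _) (l m) (hl m) (h n m hnm _ h0)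
    exact ⟨z, hz, by rw [← hlι, ← hlι, hze]⟩
  · intro h n m hnm i hi
    obtain ⟨x, rfl⟩ := hl m i
    obtain ⟨z, hz, hze⟩ := h n m hnm x (by
      rw [← res_res X hnm (Nat.le_add_right m r'), ← hlι, ← res_natural, hi, map_zero])
    rw [show ap (l m) x = ap (l m) z from hι m (by rw [hlι, hlι, hze])]
    exact IM_map _ hz

theorem Bd.mono (hq : ∀ k, HQ C (J ^ k)) {r r' s s' : ℕ} (h : Bd J X r s) (hr : r ≤ r') (hs : s ≤ s') :
    Bd J X r' s' := by
  obtain ⟨I, ι, hι, -, -, himg⟩ := exists_univ_image h.1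
  exact ⟨mlb_mono h.1 hr, (cond_iff_condB hq hι himg h.1 hr s').1
    (cond_mono ((cond_iff_condB hq hι himg h.1 le_rfl s).2 h.2) hs)⟩

theorem arAdic_iff_bd (hq : ∀ k, HQ C (J ^ k)) :
    ARSys.IsARAdic J X ↔ ARSys.TermKilled J X ∧ ∃ r s, Bd J X r s := by
  constructor
  · intro h
    obtain ⟨r, hr⟩ := (mlar_iff X).1 (mlar_of_arAdic h)
    obtain ⟨I, ι, hι, hI, hb, himg⟩ := exists_univ_image hr
    obtain ⟨s, hs⟩ := (arAdic_iff_sub hq hι hI hb h.1).1 h
    exact ⟨h.1, r, s, hr, (cond_iff_condB hq hι himg hr le_rfl s).1 hs⟩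
  · rintro ⟨hk, r, s, hr, hs⟩
    obtain ⟨I, ι, hι, hI, hb, himg⟩ := exists_univ_image hr
    exact (arAdic_iff_sub hq hι hI hb hk).2 ⟨s, (cond_iff_condB hq hι himg hr le_rfl s).2 hs⟩

theorem Bd.of_iso {r s : ℕ} (e : X ≅ X') (h : Bd J X r s) : Bd J X' r s := by
  have hi : ∀ n y, ap (e.hom.app (op n)) (ap (e.inv.app (op n)) y) = y := fun n y => by
    rw [← ap_comp, e.inv_hom_id_app, ap_id]
  refine ⟨fun n m M hnm hnM hm a => ?_, fun n m hnm x hx => ?_⟩
  · obtain ⟨b, hb⟩ := h.1 n m M hnm hnM hm (ap (e.inv.app (op m)) a)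
    exact ⟨ap (e.hom.app (op M)) b, by rw [← res_natural, hb, res_natural, hi]⟩
  · obtain ⟨z, hz, hze⟩ := h.2 n m hnm (ap (e.inv.app (op (m + r))) x) (by rw [← res_natural, hx, map_zero])
    exact ⟨ap (e.hom.app (op (m + r))) z, IM_map _ hz, by rw [← res_natural, hze, res_natural, hi]⟩

section Functor

variable {D : Type u'} [Category.{v'} D] [Abelian D] [Linear A D] (Φ : C ⥤ D) [Φ.Additive]
  [Φ.Linear A]

theorem homKilled_map {K : Ideal A} {Y Z : C} {φ : Y ⟶ Z} (h : ARSys.HomKilledBy K φ) :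
    ARSys.HomKilledBy K (Φ.map φ) := fun a ha => by rw [← Φ.map_smul, h a ha, Φ.map_zero]

theorem termKilled_map (h : ARSys.TermKilled J X) : ARSys.TermKilled J (X ⋙ Φ) := fun n a ha => by
  show a • 𝟙 (Φ.obj (X.obj (op n))) = 0
  rw [← Φ.map_id, ← Φ.map_smul, h n a ha, Φ.map_zero]

variable [PreservesFiniteLimits Φ] [PreservesFiniteColimits Φ]

omit [Linear A D] [Φ.Linear A] in
theorem map_kernel_exact {Y Z : C} (f : Y ⟶ Z) (y : El (Φ.obj Y)) (h : ap (Φ.map f) y = 0) :
    ∃ t, ap (Φ.map (kernel.ι f)) t = y :=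
  (exact_iff ((ShortComplex.mk _ _ (kernel.condition f)).map Φ)).1
    ((ShortComplex.exact_of_f_is_kernel _ (kernelIsKernel f)).map Φ) y h

omit [Linear A D] [Φ.Linear A] in
theorem map_cokernel_exact {Y Z : C} (f : Y ⟶ Z) (z : El (Φ.obj Z))
    (h : ap (Φ.map (cokernel.π f)) z = 0) : ∃ t, ap (Φ.map f) t = z :=
  (exact_iff ((ShortComplex.mk _ _ (cokernel.condition f)).map Φ)).1
    ((ShortComplex.exact_of_g_is_cokernel _ (cokernelIsCokernel f)).map Φ) z h

theorem map_kernel_mem_IM {K : Ideal A} (hK : K.FG) {Y Q : C} {p : Y ⟶ Q} (hp : ARSys.IsQuot K p)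
    (t : El (Φ.obj (kernel p))) : ap (Φ.map (kernel.ι p)) t ∈ IM K (Φ.obj Y) := by
  intro Z φ hφ
  obtain ⟨d, g, hg⟩ := Submodule.fg_iff_exists_fin_generating_family.1 hK
  haveI : HasFiniteBiproducts C := Abelian.hasFiniteBiproducts
  let μ : (⨁ fun _ : Fin d => Y) ⟶ Y := ∑ i, biproduct.π (fun _ : Fin d => Y) i ≫ (g i • 𝟙 Y)
  have hμ : ∀ i, biproduct.ι (fun _ : Fin d => Y) i ≫ μ = g i • 𝟙 Y := fun i => by
    simp only [μ, Preadditive.comp_sum]
    rw [Finset.sum_eq_single i (fun j _ hj => by rw [biproduct.ι_π_ne_assoc _ (Ne.symm hj), zero_comp])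
      (fun h => absurd (Finset.mem_univ i) h), biproduct.ι_π_self_assoc]
  have hπ : ARSys.HomKilledBy K (cokernel.π μ) := fun a ha => by
    rw [← hg] at ha
    refine Submodule.span_induction ?_ (zero_smul _ _)
      (fun x y _ _ hx hy => by rw [add_smul, hx, hy, add_zero])
      (fun r x _ hx => by rw [smul_eq_mul, mul_smul, hx, smul_zero]) ha
    rintro _ ⟨i, rfl⟩
    calc g i • cokernel.π μ = (biproduct.ι (fun _ : Fin d => Y) i ≫ μ) ≫ cokernel.π μ := by
          rw [hμ, Linear.smul_comp, Category.id_comp]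
      _ = 0 := by rw [Category.assoc, cokernel.condition, comp_zero]
  obtain ⟨ψ, hψ, -⟩ := hp.2 _ _ hπ
  have hk : kernel.ι p ≫ cokernel.π μ = 0 := by rw [← hψ, kernel.condition_assoc, zero_comp]
  let l : kernel p ⟶ Abelian.image μ := kernel.lift _ _ hk
  have hl : l ≫ Abelian.image.ι μ = kernel.ι p := kernel.lift_ι _ _ _
  have h0 : Φ.map μ ≫ φ = 0 := by
    simp only [μ, Φ.map_sum, Preadditive.sum_comp, Φ.map_comp, Category.assoc]
    refine Finset.sum_eq_zero fun i _ => ?_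
    rw [Φ.map_smul, Φ.map_id, Linear.smul_comp, Category.id_comp,
      hφ (g i) (hg ▸ Submodule.subset_span ⟨i, rfl⟩), comp_zero]
  have h1 : Φ.map (Abelian.image.ι μ) ≫ φ = 0 := by
    rw [← cancel_epi (Φ.map (Abelian.factorThruImage μ)), comp_zero, ← Category.assoc, ← Φ.map_comp,
      Abelian.image.fac, h0]
  rw [← ap_comp, ← hl, Φ.map_comp, Category.assoc, h1, comp_zero, ap_zero]

theorem Bd.map [IsNoetherianRing A] {r s : ℕ} (h : Bd J X r s) : Bd J (X ⋙ Φ) r s := by
  refine ⟨fun n m M hnm hnM hm a => ?_, fun n m hnm x hx => ?_⟩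
  · have hf : ARSys.tr X hnm ≫ cokernel.π (ARSys.tr X hnM) = 0 := eq_zero fun b => by
      obtain ⟨c, hc⟩ := h.1 n m M hnm hnM hm b
      rw [ap_comp]
      change ap _ (res X _ b) = 0
      rw [← hc]
      exact cokernel_π_ap _ c
    refine map_cokernel_exact Φ (ARSys.tr X hnM) _ ?_
    change ap _ (ap (Φ.map (ARSys.tr X hnm)) a) = 0
    rw [← ap_comp, ← Φ.map_comp, hf, Φ.map_zero, ap_zero]
  · obtain ⟨Q, p, hp⟩ := hq_pow (C := C) (J := J) (Or.inl (IsNoetherian.noetherian J)) (n + 1 - s)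
      (X.obj (op (m + r)))
    have hf : (kernel.ι (ARSys.tr X (hnm.trans (Nat.le_add_right m r))) ≫
        ARSys.tr X (Nat.le_add_right m r)) ≫
        cokernel.π (kernel.ι p ≫ ARSys.tr X (Nat.le_add_right m r)) = 0 := eq_zero fun k => by
      obtain ⟨z, hz, hze⟩ := h.2 n m hnm _ (kernel_ι_ap (ARSys.tr X (hnm.trans (Nat.le_add_right m r))) k)
      rw [ap_comp, ap_comp]
      change ap _ (res X _ _) = 0
      rw [← hze]
      obtain ⟨t, rfl⟩ := exists_kernel_ι p z (hz Q p (homKilled_of_killed p hp.1))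
      rw [res, ← ap_comp (kernel.ι p)]
      exact cokernel_π_ap _ t
    obtain ⟨k, rfl⟩ := map_kernel_exact Φ _ x hx
    obtain ⟨t, ht⟩ := map_cokernel_exact Φ _ _ (by
      rw [← ap_comp, ← Φ.map_comp, hf, Φ.map_zero, ap_zero] :
      ap (Φ.map (cokernel.π (kernel.ι p ≫ ARSys.tr X (Nat.le_add_right m r))))
        (ap (Φ.map (kernel.ι _ ≫ ARSys.tr X (Nat.le_add_right m r))) k) = 0)
    refine ⟨ap (Φ.map (kernel.ι p)) t,
      map_kernel_mem_IM Φ (IsNoetherian.noetherian _) hp t, ?_⟩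
    rw [Φ.map_comp, Φ.map_comp, ap_comp, ap_comp] at ht
    exact ht

end Functor

section Detect

variable {D : Type u'} [Category.{v'} D] [Abelian D] [Linear A D] {ι : Type*} (Φ : ι → C ⥤ D)
  [∀ i, (Φ i).Additive] [∀ i, (Φ i).Linear A] [∀ i, PreservesFiniteLimits (Φ i)]
  [∀ i, PreservesFiniteColimits (Φ i)]

theorem Bd.of_functors [IsNoetherianRing A]
    (hΦ : ∀ {Y Z : C} (f : Y ⟶ Z), (∀ i, (Φ i).map f = 0) → f = 0)
    {r s : ℕ} (h : ∀ i, Bd J (X ⋙ Φ i) r s) : Bd J X r s := by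
  refine ⟨fun n m M hnm hnM hm a => ?_, fun n m hnm x hx => ?_⟩
  · have hf : ARSys.tr X hnm ≫ cokernel.π (ARSys.tr X hnM) = 0 := hΦ _ fun i => eq_zero fun b => by
      obtain ⟨c, hc⟩ := (h i).1 n m M hnm hnM hm b
      rw [(Φ i).map_comp, ap_comp]
      change ap _ (res (X ⋙ Φ i) _ b) = 0
      rw [← hc]
      exact (ap_comp _ _ c).symm.trans ((congrArg (fun f => ap f c)
        (((Φ i).map_comp _ _).symm.trans (congrArg (Φ i).map (cokernel.condition _)))).trans (by simp))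
    exact exists_of_cokernel_π _ _ ((ap_comp _ _ a).symm.trans
      ((congrArg (fun f => ap f a) hf).trans (ap_zero a)))
  · obtain ⟨Q, p, hp⟩ := hq_pow (C := C) (J := J) (Or.inl (IsNoetherian.noetherian J)) (n + 1 - s)
      (X.obj (op (m + r)))
    haveI : Epi p := (epi_iff p).2 ((isQuot_iff p).1 hp).2.1
    obtain ⟨ψ, hψ⟩ := exists_factor p (ARSys.tr X (Nat.le_add_right m r) ≫
        cokernel.π (kernel.ι p ≫ ARSys.tr X (Nat.le_add_right m r))) fun z hz => by
      obtain ⟨t, rfl⟩ := exists_kernel_ι p z hz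
      rw [← ap_comp, ← Category.assoc, cokernel.condition, ap_zero]
    have hkill : ARSys.HomKilledBy (J ^ (n + 1 - s)) (ARSys.tr X (Nat.le_add_right m r) ≫
        cokernel.π (kernel.ι p ≫ ARSys.tr X (Nat.le_add_right m r))) := fun a ha => by
      rw [← hψ, ← Linear.smul_comp, homKilled_of_killed p hp.1 a ha, zero_comp]
    have hf : (kernel.ι (ARSys.tr X (hnm.trans (Nat.le_add_right m r))) ≫
        ARSys.tr X (Nat.le_add_right m r)) ≫
        cokernel.π (kernel.ι p ≫ ARSys.tr X (Nat.le_add_right m r)) = 0 := hΦ _ fun i => eq_zero fun k => by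
      obtain ⟨z, hz, hze⟩ := (h i).2 n m hnm (ap ((Φ i).map (kernel.ι _)) k) (by
        change ap ((Φ i).map _) _ = 0
        rw [← ap_comp, ← (Φ i).map_comp, kernel.condition, (Φ i).map_zero, ap_zero])
      rw [Category.assoc, (Φ i).map_comp, ap_comp, (Φ i).map_comp, ap_comp]
      change ap _ (res (X ⋙ Φ i) _ _) = 0
      rw [← hze]
      have := hz _ _ (homKilled_map (Φ i) hkill)
      rw [(Φ i).map_comp, ap_comp] at this
      exact this
    obtain ⟨k, rfl⟩ := exists_kernel_ι (ARSys.tr X (hnm.trans (Nat.le_add_right m r))) x hx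
    obtain ⟨t, ht⟩ := exists_of_cokernel_π (kernel.ι p ≫ ARSys.tr X (Nat.le_add_right m r))
      (ap (kernel.ι (ARSys.tr X (hnm.trans (Nat.le_add_right m r))) ≫ ARSys.tr X (Nat.le_add_right m r)) k)
      (by rw [← ap_comp, hf, ap_zero])
    exact ⟨ap (kernel.ι p) t, ((isQuot_iff p).1 hp).2.2 _ (kernel_ι_ap p t),
      ((ap_comp _ _ t).symm.trans ht).trans (ap_comp _ _ k)⟩

end Detect

end ARLib
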